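import Cfsg.Agent.Lib.GolayModule.Basic

/-!
# The punctured code of length 23
-/

set_option autoImplicit false

namespace CfsgLib.Golay23

open Cfsg CfsgLib.Golay

/-- Deletion of the extra coordinate. -/
def punct (w : GolayPt → ZMod 2) : ZMod 23 → ZMod 2 := fun x => w (some x)

/-- The punctured code. -/
def code : Set (ZMod 23 → ZMod 2) := {u | ∃ w ∈ golayCode, ∀ x : ZMod 23, u x = w (some x)}

theorem code_eq : code = punct '' (golayCode : Set (GolayPt → ZMod 2)) := by
  ext u
  constructor
  · rintro ⟨w, hw, h⟩; exact ⟨w, hw, (funext h).symm⟩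
  · rintro ⟨w, hw, rfl⟩; exact ⟨w, hw, fun x => rfl⟩

theorem support_erase_none (w : GolayPt → ZMod 2) :
    (support₂ w).erase none = (support₂ (punct w)).map ⟨some, Option.some_injective _⟩ := by
  have hm : ∀ {β : Type} [Fintype β] (v : β → ZMod 2) (b : β), b ∈ support₂ v ↔ v b ≠ 0 :=
    fun v b => by simp [support₂]
  ext p
  rw [Finset.mem_erase, hm, Finset.mem_map]
  simp only [hm, Function.Embedding.coeFn_mk, punct]
  rcases p with _ | x
  · simp
  · exact ⟨fun h => ⟨x, h.2, rfl⟩,
      fun ⟨y, hy, e⟩ => ⟨Option.some_ne_none _, Option.some_injective _ e ▸ hy⟩⟩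

theorem hammingNorm_punct_eq (w : GolayPt → ZMod 2) :
    hammingNorm (punct w) = ((support₂ w).erase none).card := by
  rw [support_erase_none, Finset.card_map]
  rfl

theorem hammingNorm_le_punct_succ (w : GolayPt → ZMod 2) :
    hammingNorm w ≤ hammingNorm (punct w) + 1 := by
  rw [hammingNorm_punct_eq, hammingNorm_eq_card_support₂]
  have := Finset.pred_card_le_card_erase (s := support₂ w) (a := (none : GolayPt))
  omega

theorem hammingNorm_punct_le (w : GolayPt → ZMod 2) :
    hammingNorm (punct w) ≤ hammingNorm w := by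
  rw [hammingNorm_punct_eq, hammingNorm_eq_card_support₂]
  exact Finset.card_erase_le

theorem seven_le {u : ZMod 23 → ZMod 2} (hu : u ∈ code) (hne : u ≠ 0) : 7 ≤ hammingNorm u := by
  rw [code_eq] at hu
  obtain ⟨w, hw, rfl⟩ := hu
  have hw0 : w ≠ 0 := by rintro rfl; exact hne rfl
  have := CfsgLib.GolayModule.isGolay.min w hw hw0
  have := hammingNorm_le_punct_succ w
  omega

theorem punct_injOn : Set.InjOn punct (golayCode : Set (GolayPt → ZMod 2)) := by
  intro v hv w hw h
  by_contra hne
  have h8 := CfsgLib.GolayModule.isGolay.min _ (Submodule.sub_mem _ hv hw) (sub_ne_zero.2 hne)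
  have hz : punct (v - w) = 0 := funext fun x => by
    have := congrFun h x
    simpa [punct, sub_eq_zero] using this
  have := hammingNorm_le_punct_succ (v - w)
  rw [hz, hammingNorm_zero] at this
  omega

theorem ncard_code : code.ncard = 4096 := by
  rw [code_eq, punct_injOn.ncard_image, ← natCard_golayCode, ← Nat.card_coe_set_eq]
  rfl

theorem punct_weight (w : GolayPt → ZMod 2) :
    hammingNorm (punct w) = popc (enc w &&& 8388607) := by
  have h : encS ((Finset.univ : Finset GolayPt).erase none) = 8388607 := by decide +kernel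
  rw [hammingNorm_punct_eq, ← h, enc_eq_encS, ← encS_inter, popc_encS]
  congr 1
  ext p; simp [and_comm]

theorem ncard_weight (n : ℕ) :
    {u : ZMod 23 → ZMod 2 | u ∈ code ∧ hammingNorm u = n}.ncard =
      ((Finset.range 4096).filter fun k => popc (codeWord k &&& 8388607) = n).card := by
  have h : {u : ZMod 23 → ZMod 2 | u ∈ code ∧ hammingNorm u = n} =
      (fun k => punct (dec (codeWord k))) ''
        ↑((Finset.range 4096).filter fun k => popc (codeWord k &&& 8388607) = n) := by
    ext u
    simp only [Set.mem_image, Finset.coe_filter, Finset.mem_range, Set.mem_ofPred_eq, code_eq,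
      SetLike.mem_coe]
    constructor
    · rintro ⟨⟨w, hw, rfl⟩, hn⟩
      obtain ⟨k, hk, hkw⟩ := exists_codeWord (mem_golayCode.mp hw)
      exact ⟨k, ⟨hk, by rw [hkw, ← punct_weight, hn]⟩, by rw [hkw, dec_enc]⟩
    · rintro ⟨k, ⟨-, hk⟩, rfl⟩
      exact ⟨⟨_, dec_codeWord_mem k, rfl⟩, by rw [punct_weight, enc_dec (codeWord_lt k), hk]⟩
  rw [h, Set.InjOn.ncard_image, Set.ncard_coe_finset]
  intro a ha b hb hab
  simp only [Finset.coe_filter, Finset.mem_range, Set.mem_ofPred_eq] at ha hb
  refine codeWord_injOn ha.1 hb.1 ?_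
  have := congrArg enc (punct_injOn (dec_codeWord_mem a) (dec_codeWord_mem b) hab)
  rwa [enc_dec (codeWord_lt a), enc_dec (codeWord_lt b)] at this

theorem neg_word (v : GolayPt → ZMod 2) : -v = v := funext fun p => CharTwo.neg_eq (v p)

theorem perfect (u : ZMod 23 → ZMod 2) : ∃! c, c ∈ code ∧ hammingDist u c ≤ 3 := by
  classical
  let w₀ : GolayPt → ZMod 2 := fun p => p.elim 0 u
  have main : ∃ v : GolayPt → ZMod 2, v - w₀ ∈ golayCode ∧ hammingNorm (punct v) ≤ 3 := by
    rcases CfsgLib.Combin.AbstractGolay.coset_leaders CfsgLib.GolayModule.isGolay w₀ with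
      ⟨v, hv, hv3⟩ | ⟨hcard, hpart⟩
    · have hm : v ∈ {u : GolayPt → ZMod 2 | u - w₀ ∈ golayCode ∧ hammingNorm u ≤ 4} := by
        rw [hv]; rfl
      exact ⟨v, hm.1, (hammingNorm_punct_le v).trans hv3⟩
    · set S := {u : GolayPt → ZMod 2 | u - w₀ ∈ golayCode ∧ hammingNorm u ≤ 4}
      have hfin : S.Finite := Set.toFinite _
      have hU : (hfin.toFinset.biUnion support₂).card = 24 := by
        rw [Finset.card_biUnion, Finset.sum_const_nat (m := 4), ← Set.ncard_eq_toFinset_card _ hfin,
          hcard]
        · intro v hv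
          rw [← hammingNorm_eq_card_support₂]
          exact (hpart v (hfin.mem_toFinset.1 hv)).1
        · intro v hv v' hv' hne
          exact (hpart v (hfin.mem_toFinset.1 hv)).2 v' (hfin.mem_toFinset.1 hv') hne
      have hall := Finset.eq_univ_of_card _ (hU.trans card_golayPt.symm)
      obtain ⟨v, hv, hvn⟩ := Finset.mem_biUnion.1 (hall ▸ Finset.mem_univ (none : GolayPt))
      have hv' := hfin.mem_toFinset.1 hv
      refine ⟨v, hv'.1, ?_⟩
      rw [hammingNorm_punct_eq, Finset.card_erase_of_mem hvn]
      have := (hpart v hv').1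
      rw [hammingNorm_eq_card_support₂] at this
      omega
  obtain ⟨v, hv, hv3⟩ := main
  have hd : ∀ a b : ZMod 23 → ZMod 2, hammingDist a b = hammingNorm (b - a) := by
    intro a b
    rw [hammingDist_comm, hammingDist_eq_hammingNorm]
    congr 1
    funext x
    exact (show ∀ p q : ZMod 2, -q + p = q - p by decide) (a x) (b x)
  refine ⟨punct (v - w₀), ⟨⟨v - w₀, hv, fun x => rfl⟩, ?_⟩, ?_⟩
  · rw [hd]
    have : punct (v - w₀) - u = punct v := funext fun x => by
      show v (some x) - u x - u x = v (some x)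
      rw [sub_sub, CharTwo.add_self_eq_zero, sub_zero]
    rw [this]; exact hv3
  · rintro c ⟨hc, hc3⟩
    by_contra hne
    have hmem : c - punct (v - w₀) ∈ code := by
      rw [code_eq] at hc ⊢
      obtain ⟨w, hw, rfl⟩ := hc
      exact ⟨w - (v - w₀), Submodule.sub_mem _ hw hv, rfl⟩
    have h7 := seven_le hmem (sub_ne_zero.2 hne)
    have hd' : hammingDist u (punct (v - w₀)) ≤ 3 := by
      rw [hd]
      have : punct (v - w₀) - u = punct v := funext fun x => by
        show v (some x) - u x - u x = v (some x)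
        rw [sub_sub, CharTwo.add_self_eq_zero, sub_zero]
      rw [this]; exact hv3
    have := hammingDist_triangle (punct (v - w₀)) u c
    rw [hammingDist_comm (punct (v - w₀)) u, hd (punct (v - w₀)) c] at this
    omega

end CfsgLib.Golay23
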